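import Cfsg.Agent.H730.Hit.Main
import Cfsg.Agent.S2476
import Cfsg.Agent.H693.FiveL3
import Cfsg.Agent.H113.PSL.Main

/-!
# `Paw` for `PSL₃(4)` (helper730, task HIT1 of S4919)
-/

set_option autoImplicit false

namespace Cfsg.Agent.H730.Hit

open Cfsg Cfsg.Agent.Characters.Core

universe u v w

section

variable {F : Type w} [Field F] [Fintype F]

theorem orderOf_l34 (hF : Fintype.card F = 4) (x : Matrix.ProjectiveSpecialLinearGroup (Fin 3) F) :
    orderOf x ∣ 7 ∨ orderOf x ∣ 5 ∨ orderOf x ∣ 3 ∨ orderOf x ∣ 4 := by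
  have : Fact (Nat.Prime 2) := ⟨Nat.prime_two⟩
  have hchar : CharP F 2 := charP_of_card_eq_prime_pow (p := 2) (f := 2) (by rw [hF]; norm_num)
  have h1 : orderOf x ∈ Set.range (orderOf : Matrix.ProjectiveSpecialLinearGroup (Fin 3) F → ℕ) := ⟨x, rfl⟩
  rw [Cfsg.Agent.S2476.result 2, Set.mem_ofPred_eq, hF] at h1
  norm_num at h1
  rcases h1 with h | h | h | h | h
  · exact Or.inl h
  · exact Or.inr (Or.inl h)
  · exact Or.inr (Or.inr (Or.inl h))
  · exact Or.inr (Or.inr (Or.inr (h.trans (by norm_num))))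
  · exact Or.inr (Or.inr (Or.inr h))

theorem card_l34 (hF : Fintype.card F = 4) : Nat.card (Matrix.ProjectiveSpecialLinearGroup (Fin 3) F) = 20160 := by
  have h := Cfsg.Agent.S0243.result (F := F) hF 3 (by norm_num)
  norm_num [Fin.prod_univ_succ] at h
  omega

theorem centralizer_five_l34 (hF : Fintype.card F = 4) (y : Matrix.ProjectiveSpecialLinearGroup (Fin 3) F)
    (hy : orderOf y = 5) :
    Nat.card (Subgroup.centralizer ({y} : Set (Matrix.ProjectiveSpecialLinearGroup (Fin 3) F))) ≤ 5 := by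
  have hcard := card_l34 hF
  have hfin : Finite (Matrix.ProjectiveSpecialLinearGroup (Fin 3) F) :=
    Nat.finite_of_card_ne_zero (by rw [hcard]; norm_num)
  set C := Subgroup.centralizer ({y} : Set (Matrix.ProjectiveSpecialLinearGroup (Fin 3) F)) with hC
  have hC0 : Nat.card C ≠ 0 := Nat.card_pos.ne'
  have h1 : ∀ {q : ℕ}, q.Prime → q ∣ Nat.card C → q = 5 := by
    intro q hq hqC
    by_contra hne
    have : Fact q.Prime := ⟨hq⟩
    obtain ⟨z, hz⟩ := exists_prime_orderOf_dvd_card' q hqC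
    have hcomm : Commute y (z : Matrix.ProjectiveSpecialLinearGroup (Fin 3) F) :=
      (Subgroup.mem_centralizer_singleton_iff.1 z.2).symm
    have hz' : orderOf (z : Matrix.ProjectiveSpecialLinearGroup (Fin 3) F) = q := by rw [Subgroup.orderOf_coe, hz]
    have h2 : orderOf (y * z) = 5 * q := by
      rw [hcomm.orderOf_mul_eq_mul_orderOf_of_coprime, hy, hz']
      rw [hy, hz']
      exact (Nat.coprime_primes (by norm_num) hq).2 (Ne.symm hne)
    have h3 := orderOf_l34 hF (y * z)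
    rw [h2] at h3
    rcases h3 with h | h | h | h
    all_goals
      have h4 := Nat.le_of_dvd (by norm_num) h
      have h5 := hq.two_le
      omega
  have h2 : Nat.card C = 5 ^ (Nat.card C).primeFactorsList.length := Nat.eq_prime_pow_of_unique_prime_dvd hC0 h1
  set k := (Nat.card C).primeFactorsList.length with hk
  have h3 : 5 ^ k ∣ 20160 := by rw [← h2, ← hcard]; exact Subgroup.card_subgroup_dvd_card C
  have h4 : k < 2 := by
    by_contra h
    have h5 : 5 ^ 2 ∣ 20160 := (pow_dvd_pow 5 (by omega)).trans h3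
    norm_num at h5
  rw [h2]
  have h5 : k = 0 ∨ k = 1 := by omega
  rcases h5 with h5 | h5 <;> rw [h5] <;> norm_num

theorem adj_l34 (hF : Fintype.card F = 4) :
    H671.H5.Adj 5 3 (Matrix.ProjectiveSpecialLinearGroup (Fin 3) F) ∧
    H671.H5.Adj 5 7 (Matrix.ProjectiveSpecialLinearGroup (Fin 3) F) ∧
    H671.H5.Adj 3 7 (Matrix.ProjectiveSpecialLinearGroup (Fin 3) F) ∧
    H671.H5.Adj 5 2 (Matrix.ProjectiveSpecialLinearGroup (Fin 3) F) := by
  classical
  have p2 : Nat.Prime 2 := by norm_num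
  have p3 : Nat.Prime 3 := by norm_num
  have p5 : Nat.Prime 5 := by norm_num
  have p7 : Nat.Prime 7 := by norm_num
  have hC : ∀ m, 1 ≤ m → H113.PSL.Degrees.HasCusp F m := fun m hm => H113.PSL.Main.hasCusp F m hm
  obtain ⟨φA, hφA⟩ := H113.PSL.Facts.exA (le_refl 3) (hC 3 (by omega))
  obtain ⟨φB, hφB⟩ := H113.PSL.Facts.exB (le_refl 3) (hC (3 - 1) (by omega))
  obtain ⟨φC, hφC⟩ := H113.PSL.Facts.exC (F := F) (n := 3) (by omega)
  obtain ⟨φ, t, ht, hφ⟩ := H113.PSL.Three.exists_ps (F := F) (by rw [hF])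
  have A3 := hφA 3 ⟨1, le_rfl, by omega, by rw [hF]; norm_num⟩
  have A5 := hφA 5 ⟨2, by omega, by omega, by rw [hF]; norm_num⟩
  have B3 := hφB 3 p3 (Or.inr ⟨1, le_rfl, by omega, by rw [hF]; norm_num⟩)
  have B7 := hφB 7 p7 (Or.inl (by rw [hF]; norm_num))
  have C2 := hφC 2 (Or.inl (by rw [hF]; norm_num))
  have C5 := hφC 5 (Or.inr (by rw [hF]; simp [Finset.sum_range_succ]))
  rw [hF] at ht hφ
  have hmul : charDegree (φ : Matrix.ProjectiveSpecialLinearGroup (Fin 3) F → ℂ) * t = 105 := by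
    norm_num at hφ
    omega
  have ht3 : t ∣ 3 := ht.trans (by norm_num)
  have D : ∀ r : ℕ, r.Prime → r ≠ 3 → r ∣ 105 → r ∣ charDegree (φ : Matrix.ProjectiveSpecialLinearGroup (Fin 3) F → ℂ) := by
    intro r hr h3 h
    rw [← hmul] at h
    refine (hr.dvd_mul.1 h).resolve_right fun h4 => h3 ?_
    exact (Nat.prime_dvd_prime_iff_eq hr p3).1 (h4.trans ht3)
  exact ⟨H113.PSL.Facts.adj_of p5 p3 (by norm_num) A5 A3,
    H113.PSL.Facts.adj_of p5 p7 (by norm_num) (D 5 p5 (by norm_num) (by norm_num)) (D 7 p7 (by norm_num) (by norm_num)),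
    H113.PSL.Facts.adj_of p3 p7 (by norm_num) B3 B7,
    H113.PSL.Facts.adj_of p5 p2 (by norm_num) C5 C2⟩

end

/-- **`PSL₃(4)`.** -/
theorem paw_l34 {S : Type v} [Group S] {F : Type} [Field F] [Fintype F] (hF : Fintype.card F = 4)
    (e : S ≃* Matrix.ProjectiveSpecialLinearGroup (Fin 3) F) : H670.Reg.Paw.{u, v} S := by
  have hcard : Nat.card S = 20160 := (Nat.card_congr e.toEquiv).trans (card_l34 hF)
  have hfin : Finite S := Nat.finite_of_card_ne_zero (by rw [hcard]; norm_num)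
  obtain ⟨h1, h2, h3, h4⟩ := adj_l34 hF
  have hadj : ∀ p q : ℕ, H671.H5.Adj p q (Matrix.ProjectiveSpecialLinearGroup (Fin 3) F) → H671.H5.Adj p q S := by
    intro p q h
    unfold H671.H5.Adj at h ⊢
    rw [H424.DegTools.degreeGraph_congr e]
    exact h
  refine ⟨5, 3, 7, 2, by norm_num, by norm_num, by norm_num, hadj _ _ h1, hadj _ _ h2, hadj _ _ h3, hadj _ _ h4,
    hit_of (by norm_num) hcard (by norm_num) (fun y hy => ?_) chk_l34, ?_⟩
  · have h5 := centralizer_five_l34 hF (e y) ((orderOf_injective e.toMonoidHom e.injective y).trans hy)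
    refine le_trans ?_ h5
    have hfin' : Finite (Matrix.ProjectiveSpecialLinearGroup (Fin 3) F) := Finite.of_equiv S e.toEquiv
    refine Nat.card_le_card_of_injective (fun z : Subgroup.centralizer ({y} : Set S) =>
      (⟨e z, ?_⟩ : Subgroup.centralizer ({e y} : Set (Matrix.ProjectiveSpecialLinearGroup (Fin 3) F)))) ?_
    · rw [Subgroup.mem_centralizer_singleton_iff, ← map_mul, ← map_mul,
        Subgroup.mem_centralizer_singleton_iff.1 z.2]
    · intro z w hzw
      exact Subtype.ext (e.injective (congrArg Subtype.val hzw))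
  · intro Γ _ _ N _ ⟨e'⟩ hc t ht htN hts
    exfalso
    have hs : IsSimpleGroup (Matrix.ProjectiveSpecialLinearGroup (Fin 3) F) :=
      Cfsg.Agent.S0249.result 3 (by norm_num)
    have hsN : IsSimpleGroup N := (e'.trans e).isSimpleGroup
    have h5 := H693.FiveL3.index_dvd N hc F (p := 2) (f := 2) Nat.prime_two (by norm_num) (by rw [hF]; norm_num) (e'.trans e)
    rw [hF] at h5
    have h6 : t ∣ 12 := (htN.trans h5).trans (by norm_num)
    exact hts (h6.trans (by rw [hcard]; norm_num))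

end Cfsg.Agent.H730.Hit
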