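import Cfsg.Agent.H730.Hit.Main
import Cfsg.Agent.H590.MElevenDeg
import Cfsg.Agent.UGT.End.MEleven
import Cfsg.Agent.S2060
import Cfsg.Agent.H55.OutGen
import Cfsg.Agent.H545.PQ.RowTool

/-!
# `Paw` for `M₁₁` (helper730, task HIT1 of S4919)
-/

set_option autoImplicit false

namespace Cfsg.Agent.H730.Hit

open Cfsg Cfsg.Agent.Characters.Core

universe u v

theorem exists_deg_m11 {S : Type v} [Group S] [Finite S] (h : Cfsg.IsM11 S) {d : ℕ}
    (hd : d ∈ [10, 44, 45, 55]) : ∃ χ : IrrCharacter S, charDegree (χ : S → ℂ) = d := by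
  obtain ⟨e, he⟩ := H590.MElevenDeg.exists_equiv h
  have key : ∀ i : Fin 10, ∃ χ : IrrCharacter S, charDegree (χ : S → ℂ) = H590.MElevenDeg.deg10 i := fun i =>
    ⟨e i, by
      have h1 := he i
      simp [charDegree, h1]⟩
  simp only [List.mem_cons, List.not_mem_nil, or_false] at hd
  rcases hd with rfl | rfl | rfl | rfl
  · exact key 1
  · exact key 8
  · exact key 4
  · exact key 9

theorem adj_m11 {S : Type v} [Group S] [Finite S] (h : Cfsg.IsM11 S) {p q d : ℕ}
    (hd : d ∈ [10, 44, 45, 55]) (hp : p.Prime) (hq : q.Prime) (hpq : p ≠ q) (hdvd : p * q ∣ d) :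
    H671.H5.Adj p q S := by
  obtain ⟨χ, hχ⟩ := exists_deg_m11 h hd
  exact H671.H5.adj_iff.2 ⟨hpq, hp, hq, χ, by rw [hχ]; exact hdvd⟩

/-- **`M₁₁`.** -/
theorem paw_m11 {S : Type v} [Group S] (h : Cfsg.Spor.IsoM11 S) : H670.Reg.Paw.{u, v} S := by
  have hM := UGT.End.MEleven.isM11 h
  have hfin : Finite S := Nat.finite_of_card_ne_zero (by rw [hM.2]; norm_num)
  have p2 : Nat.Prime 2 := by norm_num
  have p3 : Nat.Prime 3 := by norm_num
  have p5 : Nat.Prime 5 := by norm_num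
  have p11 : Nat.Prime 11 := by norm_num
  refine ⟨5, 2, 11, 3, by norm_num, by norm_num, by norm_num, adj_m11 hM (d := 10) (by simp) p5 p2 (by norm_num) (by norm_num),
    adj_m11 hM (d := 55) (by simp) p5 p11 (by norm_num) (by norm_num),
    adj_m11 hM (d := 44) (by simp) p2 p11 (by norm_num) (by norm_num),
    adj_m11 hM (d := 45) (by simp) p5 p3 (by norm_num) (by norm_num),
    hit_of p5 hM.2 (by norm_num) (fun y hy => (SporadicA.M11Facts.card_centralizer_five hM hy).le) chk_m11, ?_⟩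
  intro Γ _ _ N _ ⟨e⟩ hc t ht htN _
  exfalso
  have h1 := H545.PQ.index_dvd_out N hc
  rw [show (MulAut.conj : N →* MulAut N).range.index = Nat.card (Cfsg.Out N) from rfl] at h1
  obtain ⟨e'⟩ := h
  rw [H55.OutGen.card_out_congr (e.trans e'), Cfsg.Agent.S2060.result] at h1
  exact ht.one_lt.ne' (Nat.dvd_one.1 (htN.trans h1))

end Cfsg.Agent.H730.Hit
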