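import Cfsg.Agent.H658.Reg.LemL

/-!
# A counting lemma for projective characters (helper730, task HIT1 of S4919)

`π : Q → Y` surjective with central kernel, `l` a linear character of the kernel, `p` a prime dividing `|Y|` and no degree
over `l`: then there are at most `|C_Y(y)|` irreducible characters over `l`, `y ∈ Y` of order `p`.
-/

set_option autoImplicit false
set_option linter.unusedSectionVars false

namespace Cfsg.Agent.H730.Hit

open Cfsg
open scoped ComplexConjugate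
open Cfsg.Agent.Characters.Core
open Cfsg.Agent.H595.Count Cfsg.Agent.H595.Central Cfsg.Agent.H595.Triple
open Cfsg.Agent.H525.L2

universe u v

/-- The variance of integers whose sum is not divisible by their number. -/
theorem sq_sum_ge {ι : Type*} (s : Finset ι) (m : ι → ℤ) {p : ℕ} (hp : 1 < p) (hs : s.card = p)
    (h : ¬ (p : ℤ) ∣ ∑ i ∈ s, m i) :
    (p : ℤ) - 1 ≤ p * ∑ i ∈ s, m i ^ 2 - (∑ i ∈ s, m i) ^ 2 := by
  set n := ∑ i ∈ s, m i with hn
  set k := n / (p : ℤ) with hk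
  set r := n % (p : ℤ) with hr
  have hp0 : (0 : ℤ) < p := by exact_mod_cast (by omega : 0 < p)
  have h1 : (p : ℤ) * k + r = n := Int.mul_ediv_add_emod n p
  have hr0 : 0 ≤ r := Int.emod_nonneg _ hp0.ne'
  have hrp : r < p := Int.emod_lt_of_pos _ hp0
  have hr1 : r ≠ 0 := fun h0 => h (Int.dvd_of_emod_eq_zero h0)
  have h2 : ∑ i ∈ s, (m i - k) = r := by
    rw [Finset.sum_sub_distrib, Finset.sum_const, hs, nsmul_eq_mul, ← hn, ← h1]
    ring
  have h3 : r ≤ ∑ i ∈ s, (m i - k) ^ 2 := by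
    rw [← h2]
    refine Finset.sum_le_sum fun i _ => ?_
    have : 0 ≤ (m i - k) * (m i - k - 1) := by
      rcases le_or_gt (m i - k) 0 with h0 | h0
      · exact mul_nonneg_of_nonpos_of_nonpos h0 (by omega)
      · exact mul_nonneg h0.le (by omega)
    nlinarith
  have h4 : ∑ i ∈ s, (m i - k) ^ 2 = ∑ i ∈ s, m i ^ 2 - 2 * k * n + p * k ^ 2 := by
    have : ∀ i, (m i - k) ^ 2 = m i ^ 2 - 2 * k * m i + k ^ 2 := fun i => by ring
    simp only [this]
    rw [Finset.sum_add_distrib, Finset.sum_sub_distrib, Finset.sum_const, hs, nsmul_eq_mul, ← Finset.mul_sum]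
  have h5 : 0 ≤ (r - 1) * (p - r - 1) := mul_nonneg (by omega) (by omega)
  have h6 : (p : ℤ) * ∑ i ∈ s, m i ^ 2 - n ^ 2 = p * ∑ i ∈ s, (m i - k) ^ 2 - r ^ 2 := by
    rw [h4, ← h1]
    ring
  rw [h6]
  have h7 : (p : ℤ) * r ≤ p * ∑ i ∈ s, (m i - k) ^ 2 := mul_le_mul_of_nonneg_left h3 hp0.le
  nlinarith

/-- Averages over a surjective homomorphism. -/
theorem sum_comp_mul {Q : Type u} {Y : Type v} [Group Q] [Group Y] [Fintype Q] [Fintype Y] (π : Q →* Y)
    (hs : Function.Surjective π) (f : Y → ℝ) :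
    (∑ g : Q, f (π g)) * Nat.card Y = Nat.card Q * ∑ y : Y, f y := by
  classical
  have key : ∀ f : Y → ℝ, ∑ g : Q, f (π g) =
      ((Finset.univ.filter (fun g : Q => π g = 1)).card : ℝ) * ∑ y : Y, f y := by
    intro f
    rw [Finset.mul_sum, ← Finset.sum_fiberwise (s := Finset.univ) (g := fun g : Q => π g)]
    refine Finset.sum_congr rfl fun y _ => ?_
    have h1 : ∀ g ∈ Finset.univ.filter (fun g : Q => π g = y), f (π g) = f y := by
      intro g hg
      rw [(Finset.mem_filter.1 hg).2]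
    rw [Finset.sum_congr rfl h1, Finset.sum_const, nsmul_eq_mul,
      MonoidHom.card_fiber_eq_of_mem_range π (hs y) (hs 1)]
  have h1 := key (fun _ => 1)
  rw [Finset.sum_const, Finset.sum_const, nsmul_eq_mul, nsmul_eq_mul, mul_one, mul_one, Finset.card_univ,
    Finset.card_univ] at h1
  rw [key f, Nat.card_eq_fintype_card, Nat.card_eq_fintype_card, h1]
  ring

section

variable {Q : Type u} [Group Q] [Finite Q] {Y : Type v} [Group Y] [Finite Y] {π : Q →* Y}
  (l : π.ker →* ℂˣ)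

theorem norm_l (z : π.ker) : ‖((l z : ℂˣ) : ℂ)‖ = 1 := by
  have h1 := H672.lf_mul_conj l z
  have h2 : (‖((l z : ℂˣ) : ℂ)‖ : ℝ) ^ 2 = 1 := by
    have h3 := Complex.mul_conj' ((l z : ℂˣ) : ℂ)
    rw [h1] at h3
    exact_mod_cast h3.symm
  have h4 : 0 ≤ ‖((l z : ℂˣ) : ℂ)‖ := norm_nonneg _
  nlinarith

/-- The values depend only on the image, up to norm one. -/
theorem norm_of_eq {Φ : Q → ℂ} (hΦ : ∀ (a : Q) (z : π.ker), Φ (a * z) = Φ a * l z) {a b : Q} (h : π a = π b) :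
    ‖Φ a‖ = ‖Φ b‖ := by
  have h1 : b⁻¹ * a ∈ π.ker := by rw [MonoidHom.mem_ker, map_mul, map_inv, h, inv_mul_cancel]
  have h2 := hΦ b ⟨b⁻¹ * a, h1⟩
  rw [show b * ((⟨b⁻¹ * a, h1⟩ : π.ker) : Q) = a from mul_inv_cancel_left b a] at h2
  rw [h2, norm_mul, norm_l, mul_one]

/-- **Column bound.** -/
theorem sum_norm_le [Fintype (IrrCharacter Q)] (hs : Function.Surjective π) (h : Q) :
    ∑ β ∈ Ov l, ‖(β : Q → ℂ) h‖ ^ 2 ≤ (Nat.card (Subgroup.centralizer ({π h} : Set Y)) : ℝ) := by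
  classical
  have := Fintype.ofFinite Q
  have := Fintype.ofFinite Y
  set s : ℝ := ∑ β ∈ Ov l, ‖(β : Q → ℂ) h‖ ^ 2 with hsdef
  have hs0 : 0 ≤ s := Finset.sum_nonneg fun β _ => sq_nonneg _
  let Φ : Q → ℂ := fun g => ∑ β ∈ Ov l, conj ((β : Q → ℂ) h) * (β : Q → ℂ) g
  have hΦ1 : Φ h = s := by
    show ∑ β ∈ Ov l, conj ((β : Q → ℂ) h) * (β : Q → ℂ) h = _
    rw [hsdef, Complex.ofReal_sum]
    refine Finset.sum_congr rfl fun β _ => ?_
    rw [mul_comm, Complex.mul_conj']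
    push_cast
    rfl
  have hΦ2 : ∀ (a : Q) (z : π.ker), Φ (a * z) = Φ a * l z := by
    intro a z
    show ∑ β ∈ Ov l, conj ((β : Q → ℂ) h) * (β : Q → ℂ) (a * z) = _
    rw [Finset.sum_mul]
    refine Finset.sum_congr rfl fun β hβ => ?_
    rw [(mem_Ov l).1 hβ a z]
    ring
  have hΦ3 : ∀ g x, Φ (x * g * x⁻¹) = Φ g := by
    intro g x
    refine Finset.sum_congr rfl fun β _ => ?_
    rw [isIrr_isClassFunction β.2 g x]
  have hΦ4 : classInner Φ Φ = s := by
    have e1 : Φ = ∑ β : IrrCharacter Q, (if β ∈ Ov l then conj ((β : Q → ℂ) h) else 0) • (β : Q → ℂ) := by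
      funext g
      rw [Finset.sum_apply]
      have e2 : ∀ β : IrrCharacter Q, ((if β ∈ Ov l then conj ((β : Q → ℂ) h) else 0) • (β : Q → ℂ)) g =
          if β ∈ Ov l then conj ((β : Q → ℂ) h) * (β : Q → ℂ) g else 0 := by
        intro β
        rw [Pi.smul_apply, smul_eq_mul, ite_mul, zero_mul]
      rw [Finset.sum_congr rfl fun β _ => e2 β, Finset.sum_ite_mem, Finset.univ_inter]
    rw [e1, classInner_sum_smul_sum_smul, hsdef, Complex.ofReal_sum]
    have e3 : ∀ β : IrrCharacter Q, (if β ∈ Ov l then conj ((β : Q → ℂ) h) else 0) *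
        conj (if β ∈ Ov l then conj ((β : Q → ℂ) h) else 0) =
          if β ∈ Ov l then ((‖(β : Q → ℂ) h‖ ^ 2 : ℝ) : ℂ) else 0 := by
      intro β
      split_ifs
      · rw [Complex.mul_conj', RCLike.norm_conj]
        push_cast
        rfl
      · simp
    rw [Finset.sum_congr rfl fun β _ => e3 β, Finset.sum_ite_mem, Finset.univ_inter]
  -- the function on the quotient
  let σ : Y → Q := Function.surjInv hs
  have hσ : ∀ y, π (σ y) = y := Function.surjInv_eq hs
  let F : Y → ℝ := fun y => ‖Φ (σ y)‖ ^ 2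
  have hF : ∀ g, F (π g) = ‖Φ g‖ ^ 2 := by
    intro g
    show ‖Φ (σ (π g))‖ ^ 2 = _
    rw [norm_of_eq l hΦ2 (hσ (π g))]
  have hF0 : ∀ y, 0 ≤ F y := fun y => sq_nonneg _
  have hYc : (0 : ℝ) < Nat.card Y := by exact_mod_cast Nat.card_pos
  have hQc : (0 : ℝ) < Nat.card Q := by exact_mod_cast Nat.card_pos
  have hsum : ∑ y : Y, F y = s * Nat.card Y := by
    have h1 : ∑ g : Q, F (π g) = s * Nat.card Q := by
      have h2 : (classInner Φ Φ : ℂ) = ((Nat.card Q : ℂ))⁻¹ * ((∑ g : Q, ‖Φ g‖ ^ 2 : ℝ) : ℂ) := by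
        rw [classInner_def, Complex.ofReal_sum]
        congr 1
        refine Finset.sum_congr rfl fun g _ => ?_
        rw [Complex.mul_conj']
        push_cast
        rfl
      rw [hΦ4] at h2
      have h3 : ((∑ g : Q, ‖Φ g‖ ^ 2 : ℝ) : ℂ) = (s * Nat.card Q : ℝ) := by
        have hne : (Nat.card Q : ℂ) ≠ 0 := card_ne_zero_complex
        push_cast at h2 ⊢
        field_simp at h2
        linear_combination -h2
      have h4 : ∑ g : Q, ‖Φ g‖ ^ 2 = s * Nat.card Q := by exact_mod_cast h3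
      rw [← h4]
      exact Finset.sum_congr rfl fun g _ => hF g
    have h2 := sum_comp_mul π hs F
    rw [h1] at h2
    have h3 : (Nat.card Q : ℝ) * (s * Nat.card Y) = Nat.card Q * ∑ y : Y, F y := by rw [← h2]; ring
    exact (mul_left_cancel₀ hQc.ne' h3).symm
  -- conjugates of `π h`
  set y := π h with hy
  have hconj : ∀ u : Y, F (u * y * u⁻¹) = s ^ 2 := by
    intro u
    obtain ⟨x, rfl⟩ := hs u
    rw [hy, ← map_inv, ← map_mul, ← map_mul, hF, hΦ3, hΦ1, Complex.norm_real, Real.norm_of_nonneg hs0]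
  set c := Nat.card (Subgroup.centralizer ({y} : Set Y)) with hc
  have hle : ∑ u : Y, F (u * y * u⁻¹) ≤ c * ∑ y' : Y, F y' := by
    rw [← Finset.sum_fiberwise (s := Finset.univ) (g := fun u : Y => u * y * u⁻¹), Finset.mul_sum]
    refine Finset.sum_le_sum fun y' _ => ?_
    have h1 : ∀ u ∈ Finset.univ.filter (fun u : Y => u * y * u⁻¹ = y'), F (u * y * u⁻¹) = F y' := by
      intro u hu
      rw [(Finset.mem_filter.1 hu).2]
    rw [Finset.sum_congr rfl h1, Finset.sum_const, nsmul_eq_mul]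
    refine mul_le_mul_of_nonneg_right ?_ (hF0 y')
    rcases (Finset.univ.filter (fun u : Y => u * y * u⁻¹ = y')).eq_empty_or_nonempty with h0 | ⟨u0, hu0⟩
    · rw [h0, Finset.card_empty, Nat.cast_zero]
      exact Nat.cast_nonneg _
    · rw [hc]
      norm_cast
      have hu0' : u0 * y * u0⁻¹ = y' := (Finset.mem_filter.1 hu0).2
      have := Fintype.ofFinite (Subgroup.centralizer ({y} : Set Y))
      rw [Nat.card_eq_fintype_card, ← Finset.card_univ]
      refine Finset.card_le_card_of_surjOn (fun z : Subgroup.centralizer ({y} : Set Y) => u0 * (z : Y)) ?_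
      intro u hu
      have hu' : u * y * u⁻¹ = y' := (Finset.mem_filter.1 hu).2
      refine ⟨⟨u0⁻¹ * u, ?_⟩, Finset.mem_coe.2 (Finset.mem_univ _), mul_inv_cancel_left u0 u⟩
      rw [Subgroup.mem_centralizer_singleton_iff]
      have h2 : u * y * u⁻¹ = u0 * y * u0⁻¹ := hu'.trans hu0'.symm
      have h3 : u * y = u0 * y * u0⁻¹ * u := by rw [← h2]; group
      calc u0⁻¹ * u * y = u0⁻¹ * (u * y) := by group
        _ = u0⁻¹ * (u0 * y * u0⁻¹ * u) := by rw [h3]
        _ = y * (u0⁻¹ * u) := by group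
  rw [Finset.sum_congr rfl fun u _ => hconj u, Finset.sum_const, nsmul_eq_mul, Finset.card_univ,
    ← Nat.card_eq_fintype_card, hsum] at hle
  rcases hs0.eq_or_lt with h0 | h0
  · rw [← h0]
    exact Nat.cast_nonneg _
  · have h1 : (Nat.card Y * s) * s ≤ (Nat.card Y * s) * c := by nlinarith
    exact le_of_mul_le_mul_left h1 (mul_pos hYc h0)

/-- **Row bound.** -/
theorem sum_zpowers_ge (hs : Function.Surjective π) (hc : π.ker ≤ Subgroup.center Q) {p : ℕ} (hp : p.Prime)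
    {y : Y} (hy : orderOf y = p) {β : Q → ℂ} (hβ : IsIrrCharacter Q β) (hβo : Over π l β)
    (hd : ¬ p ∣ charDegree β) (F : Y → ℝ) (hF : ∀ g, F (π g) = ‖β g‖ ^ 2) [Fintype (Subgroup.zpowers y)] :
    (p : ℝ) - 1 ≤ ∑ u : Subgroup.zpowers y, F u - F 1 := by
  classical
  have := Fintype.ofFinite Q
  let A : Subgroup Q := (Subgroup.zpowers y).comap π
  have := Fintype.ofFinite A
  let pA : A →* Subgroup.zpowers y := π.subgroupComap (Subgroup.zpowers y)
  have hps : Function.Surjective pA := by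
    rintro ⟨a, ha⟩
    obtain ⟨x, rfl⟩ := hs a
    exact ⟨⟨x, ha⟩, rfl⟩
  have hpk : ∀ z : pA.ker, ((z : A) : Q) ∈ π.ker := by
    intro z
    exact congrArg Subtype.val (MonoidHom.mem_ker.1 z.2)
  let i : pA.ker →* π.ker := (A.subtype.comp pA.ker.subtype).codRestrict π.ker hpk
  let lA : pA.ker →* ℂˣ := l.comp i
  have hcA : pA.ker ≤ Subgroup.center A := by
    intro z hz
    rw [Subgroup.mem_center_iff]
    intro g
    apply Subtype.ext
    exact Subgroup.mem_center_iff.1 (hc (hpk ⟨z, hz⟩)) g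
  have hcomm : ∀ a b : A, a * b = b * a :=
    (MonoidHom.isMulCommutative_of_isCyclic_of_ker_le_center pA hcA).is_comm.comm
  have hlin : ∀ χ : IrrCharacter A, (χ : A → ℂ) 1 = 1 := Cfsg.Agent.S0187.result.1 hcomm
  have hlin' : ∀ χ : IrrCharacter A, charDegree (χ : A → ℂ) = 1 := by
    intro χ
    have h1 := (deg_spec χ.2).1
    rw [hlin χ] at h1
    exact_mod_cast h1.symm
  have := finite_irr (G := A)
  have := Fintype.ofFinite (IrrCharacter A)
  have hcardz : Nat.card (Subgroup.zpowers y) = p := by rw [Nat.card_zpowers, hy]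
  have hcardO : (Ov lA).card = p := by
    have h1 := sum_sq lA hps hcA
    rw [hcardz, Finset.sum_congr rfl fun χ _ => by rw [hlin' χ]] at h1
    simpa using h1
  -- decomposition
  have hχ : IsCharacter A (fun a : A => β a) := isCharacter_comp A.subtype (isIrr_isCharacter hβ)
  obtain ⟨m, hm⟩ := exists_nat_comb hχ
  have hin : ∀ ψ : IrrCharacter A, classInner (fun a : A => β a) (ψ : A → ℂ) = m ψ := by
    intro ψ
    rw [hm]
    exact classInner_sum_nsmul_irr m ψ
  have hover : ∀ ψ : IrrCharacter A, m ψ ≠ 0 → ψ ∈ Ov lA := by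
    intro ψ hψ
    rw [mem_Ov]
    intro a z
    obtain ⟨w, hw1, hw⟩ := Cfsg.Agent.CharDeep.DegreeBound.exists_omega ψ.2 (hcA z.2)
    have hww : w * conj w = 1 := by rw [Complex.mul_conj', hw1]; norm_num
    have hlz : ∀ x : A, β ((x * z : A) : Q) = β x * l (i z) := by
      intro x
      exact hβo x (i z)
    have h0 : ∑ x : A, β x * conj ((ψ : A → ℂ) x) = (l (i z) : ℂ) * conj w * ∑ x : A, β x * conj ((ψ : A → ℂ) x) := by
      calc ∑ x : A, β x * conj ((ψ : A → ℂ) x) = ∑ x : A, β ((x * z : A) : Q) * conj ((ψ : A → ℂ) (x * z)) :=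
            (Fintype.sum_equiv (Equiv.mulRight (z : A)) _ _ (fun x => rfl)).symm
        _ = _ := by
            rw [Finset.mul_sum]
            refine Finset.sum_congr rfl fun x _ => ?_
            rw [hlz, hw, map_mul]
            ring
    have h1 : ∑ x : A, β x * conj ((ψ : A → ℂ) x) ≠ 0 := by
      intro h2
      apply hψ
      have h3 := hin ψ
      rw [classInner_def, h2, mul_zero] at h3
      exact_mod_cast h3.symm
    have h2 : (l (i z) : ℂ) * conj w = 1 := by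
      have h3 : ((l (i z) : ℂ) * conj w - 1) * ∑ x : A, β x * conj ((ψ : A → ℂ) x) = 0 := by
        rw [sub_mul, ← h0, one_mul, sub_self]
      exact sub_eq_zero.1 ((mul_eq_zero.1 h3).resolve_right h1)
    have h4 : (l (i z) : ℂ) = w := by
      calc (l (i z) : ℂ) = l (i z) * (w * conj w) := by rw [hww, mul_one]
        _ = w * (l (i z) * conj w) := by ring
        _ = w := by rw [h2, mul_one]
    show (ψ : A → ℂ) (a * z) = (ψ : A → ℂ) a * (l (i z) : ℂ)
    rw [hw, h4, mul_comm]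
  have hsumdeg : ∑ ψ ∈ Ov lA, (m ψ : ℤ) = charDegree β := by
    have h1 : β 1 = ∑ ψ : IrrCharacter A, (m ψ : ℂ) := by
      have h2 := congrFun hm 1
      rw [Finset.sum_apply] at h2
      change β ((1 : A) : Q) = _ at h2
      rw [Subgroup.coe_one] at h2
      rw [h2]
      refine Finset.sum_congr rfl fun ψ _ => ?_
      rw [Pi.smul_apply, hlin ψ, nsmul_eq_mul, mul_one]
    rw [(deg_spec hβ).1] at h1
    have h2 : charDegree β = ∑ ψ : IrrCharacter A, m ψ := by exact_mod_cast h1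
    have h3 : ∑ ψ ∈ Ov lA, m ψ = ∑ ψ : IrrCharacter A, m ψ := by
      refine Finset.sum_subset (Finset.subset_univ _) fun ψ _ hψ => ?_
      by_contra h0
      exact hψ (hover ψ h0)
    rw [h2, ← h3]
    push_cast
    rfl
  have hinner : classInner (fun a : A => β a) (fun a : A => β a) = ((∑ ψ ∈ Ov lA, (m ψ : ℤ) ^ 2 : ℤ) : ℂ) := by
    have h2 := classInner_sum_smul_sum_smul (fun ψ : IrrCharacter A => (m ψ : ℂ)) (fun ψ => (m ψ : ℂ))
    simp only [Nat.cast_smul_eq_nsmul] at h2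
    rw [← hm] at h2
    rw [h2]
    have h3 : ∑ ψ ∈ Ov lA, (m ψ : ℤ) ^ 2 = ∑ ψ : IrrCharacter A, (m ψ : ℤ) ^ 2 := by
      refine Finset.sum_subset (Finset.subset_univ _) fun ψ _ hψ => ?_
      by_contra h0
      exact hψ (hover ψ (fun h => h0 (by rw [h]; rfl)))
    rw [h3]
    push_cast
    refine Finset.sum_congr rfl fun ψ _ => ?_
    rw [map_natCast, pow_two]
  have hAc : (0 : ℝ) < Nat.card A := by exact_mod_cast Nat.card_pos
  have hsumF : ∑ u : Subgroup.zpowers y, F u = p * ((∑ ψ ∈ Ov lA, (m ψ : ℤ) ^ 2 : ℤ) : ℝ) := by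
    have h1 := sum_comp_mul pA hps (fun u : Subgroup.zpowers y => F u)
    rw [hcardz] at h1
    have h2 : ∑ a : A, F (pA a : Y) = Nat.card A * ((∑ ψ ∈ Ov lA, (m ψ : ℤ) ^ 2 : ℤ) : ℝ) := by
      have h3 : (classInner (fun a : A => β a) (fun a : A => β a) : ℂ) =
          ((Nat.card A : ℂ))⁻¹ * ((∑ a : A, ‖β a‖ ^ 2 : ℝ) : ℂ) := by
        rw [classInner_def, Complex.ofReal_sum]
        congr 1
        refine Finset.sum_congr rfl fun g _ => ?_
        rw [Complex.mul_conj']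
        push_cast
        rfl
      rw [hinner] at h3
      have hne : (Nat.card A : ℂ) ≠ 0 := card_ne_zero_complex
      have h4 : ((∑ a : A, ‖β a‖ ^ 2 : ℝ) : ℂ) =
          ((Nat.card A * ((∑ ψ ∈ Ov lA, (m ψ : ℤ) ^ 2 : ℤ) : ℝ) : ℝ) : ℂ) := by
        have h5 : (Nat.card A : ℂ) * ((∑ ψ ∈ Ov lA, (m ψ : ℤ) ^ 2 : ℤ) : ℂ) =
            ((∑ a : A, ‖β a‖ ^ 2 : ℝ) : ℂ) := by
          rw [h3, ← mul_assoc, mul_inv_cancel₀ hne, one_mul]
        rw [← h5]
        push_cast
        rfl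
      have h5 : ∑ a : A, ‖β a‖ ^ 2 = Nat.card A * ((∑ ψ ∈ Ov lA, (m ψ : ℤ) ^ 2 : ℤ) : ℝ) := by
        exact_mod_cast h4
      rw [← h5]
      exact Finset.sum_congr rfl fun a _ => hF a
    rw [h2] at h1
    have h3 : (Nat.card A : ℝ) * (p * ((∑ ψ ∈ Ov lA, (m ψ : ℤ) ^ 2 : ℤ) : ℝ)) =
        Nat.card A * ∑ u : Subgroup.zpowers y, F u := by rw [← h1]; ring
    exact (mul_left_cancel₀ hAc.ne' h3).symm
  have hF1 : F 1 = ((charDegree β : ℤ) : ℝ) ^ 2 := by
    rw [← map_one π, hF, (deg_spec hβ).1]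
    simp
  have hfin := sq_sum_ge (Ov lA) (fun ψ => (m ψ : ℤ)) hp.one_lt hcardO (by
    rw [hsumdeg]
    exact_mod_cast hd)
  rw [hsumdeg] at hfin
  rw [hsumF, hF1]
  exact_mod_cast hfin

/-- **Counting lemma.** -/
theorem card_Ov_le [Fintype (IrrCharacter Q)] (hs : Function.Surjective π) (hc : π.ker ≤ Subgroup.center Q) {p : ℕ}
    (hp : p.Prime) (hpY : p ∣ Nat.card Y) {c : ℕ}
    (hC : ∀ y : Y, orderOf y = p → Nat.card (Subgroup.centralizer ({y} : Set Y)) ≤ c)
    (hd : ∀ β : IrrCharacter Q, Over π l (β : Q → ℂ) → ¬ p ∣ charDegree (β : Q → ℂ)) : (Ov l).card ≤ c := by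
  classical
  have := Fintype.ofFinite Y
  have : Fact p.Prime := ⟨hp⟩
  obtain ⟨y, hy⟩ := exists_prime_orderOf_dvd_card' p hpY
  have := Fintype.ofFinite (Subgroup.zpowers y)
  let σ : Y → Q := Function.surjInv hs
  have hσ : ∀ y, π (σ y) = y := Function.surjInv_eq hs
  have h1 : ∀ β ∈ Ov l, (p : ℝ) - 1 ≤ ∑ u ∈ (Finset.univ : Finset (Subgroup.zpowers y)).erase 1,
      ‖(β : Q → ℂ) (σ (u : Y))‖ ^ 2 := by
    intro β hβ
    have hβ' := (mem_Ov l).1 hβ
    have h2 := sum_zpowers_ge l hs hc hp hy β.2 hβ' (hd β hβ') (fun u => ‖(β : Q → ℂ) (σ u)‖ ^ 2) (fun g => by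
      show ‖(β : Q → ℂ) (σ (π g))‖ ^ 2 = _
      rw [norm_of_eq l hβ' (hσ (π g))])
    have h3 := Finset.add_sum_erase (Finset.univ : Finset (Subgroup.zpowers y))
      (fun u => ‖(β : Q → ℂ) (σ (u : Y))‖ ^ 2) (Finset.mem_univ 1)
    rw [Subgroup.coe_one] at h3
    linarith
  have h2 : ∀ u ∈ (Finset.univ : Finset (Subgroup.zpowers y)).erase 1,
      ∑ β ∈ Ov l, ‖(β : Q → ℂ) (σ (u : Y))‖ ^ 2 ≤ c := by
    intro u hu
    have hu1 : u ≠ 1 := (Finset.mem_erase.1 hu).1
    have h3 := sum_norm_le l hs (σ (u : Y))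
    rw [hσ] at h3
    refine h3.trans ?_
    norm_cast
    refine hC _ ?_
    have h4 : orderOf (u : Y) ∣ p := by
      have h5 := orderOf_dvd_natCard u
      rw [Nat.card_zpowers, hy] at h5
      rwa [Subgroup.orderOf_coe]
    rcases (Nat.dvd_prime hp).1 h4 with h5 | h5
    · exact absurd (Subtype.ext (orderOf_eq_one_iff.1 h5)) hu1
    · exact h5
  have hcard : (((Finset.univ : Finset (Subgroup.zpowers y)).erase 1).card : ℝ) = (p : ℝ) - 1 := by
    rw [Finset.card_erase_of_mem (Finset.mem_univ _), Finset.card_univ, ← Nat.card_eq_fintype_card,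
      Nat.card_zpowers, hy, Nat.cast_sub hp.one_lt.le, Nat.cast_one]
  have h3 : ((Ov l).card : ℝ) * (p - 1) ≤ (p - 1) * c := by
    calc ((Ov l).card : ℝ) * (p - 1) = ∑ β ∈ Ov l, ((p : ℝ) - 1) := by
          rw [Finset.sum_const, nsmul_eq_mul]
      _ ≤ ∑ β ∈ Ov l, ∑ u ∈ (Finset.univ : Finset (Subgroup.zpowers y)).erase 1,
            ‖(β : Q → ℂ) (σ (u : Y))‖ ^ 2 := Finset.sum_le_sum h1
      _ = ∑ u ∈ (Finset.univ : Finset (Subgroup.zpowers y)).erase 1, ∑ β ∈ Ov l,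
            ‖(β : Q → ℂ) (σ (u : Y))‖ ^ 2 := Finset.sum_comm
      _ ≤ ∑ u ∈ (Finset.univ : Finset (Subgroup.zpowers y)).erase 1, (c : ℝ) := Finset.sum_le_sum h2
      _ = (p - 1) * c := by rw [Finset.sum_const, nsmul_eq_mul, hcard]
  have hp1 : (0 : ℝ) < p - 1 := by
    have : (1 : ℝ) < p := by exact_mod_cast hp.one_lt
    linarith
  have h4 : ((Ov l).card : ℝ) ≤ c := by
    rw [mul_comm] at h3
    exact le_of_mul_le_mul_left h3 hp1
  exact_mod_cast h4

end

end Cfsg.Agent.H730.Hit
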