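import Cfsg.Agent.H730.Hit.Count
import Cfsg.Agent.H670.Reg.Defs

/-!
# `Hit A S` from the counting lemma (helper730, task HIT1 of S4919)

* `exists_red_over` : reduction to a central extension of the inertia factor group;
* `can`, `chk` : the numerical elimination;
* `hit_of` : `Hit {a, b} S` when `chk |S| a b c = true`, `c` a bound for the centralizers of the elements of order `a`.
-/

set_option autoImplicit false
set_option linter.unusedSectionVars false

namespace Cfsg.Agent.H730.Hit

open Cfsg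
open scoped ComplexConjugate
open Cfsg.Agent.Characters.Core
open Cfsg.Agent.H595.Count Cfsg.Agent.H595.Central Cfsg.Agent.H595.Triple
open Cfsg.Agent.H525.L2

universe u v

/-- **The reduction.** `θ ∈ Irr(M)` with inertia group `I`: a central extension `Q` of `I / M` and a linear character of the
kernel such that the characters over it give characters of `X` over `θ`. -/
theorem exists_red_over {X : Type u} [Group X] [Finite X] (M : Subgroup X) [hM : M.Normal] [Fintype M] (θ : M → ℂ)
    (hθ : IsIrrCharacter M θ) (I : Subgroup X) (hI : I = H672.inertia M θ) :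
    ∃ (Q : Type u) (_ : Group Q) (_ : Finite Q) (π : Q →* I ⧸ M.subgroupOf I) (l : π.ker →* ℂˣ),
      Function.Surjective π ∧ π.ker ≤ Subgroup.center Q ∧ Function.Injective l ∧
      ∀ β : IrrCharacter Q, Over π l (β : Q → ℂ) → ∃ χ : IrrCharacter X,
        classInner (fun m : M => (χ : X → ℂ) m) θ ≠ 0 ∧
        charDegree (χ : X → ℂ) = I.index * charDegree (β : Q → ℂ) * charDegree θ := by
  classical
  have := Fintype.ofFinite X
  subst hI
  set T := Cfsg.Agent.H672.inertia M θ with hTdef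
  have := Fintype.ofFinite T
  have hT : ∀ g : X, g ∈ T ↔ ∀ n : M, θ ⟨g * n * g⁻¹, hM.conj_mem (n : X) n.2 g⟩ =
      θ n := fun g => Cfsg.Agent.H672.mem_inertia_iff
  have hMT : M ≤ T := Cfsg.Agent.H672.le_inertia (isIrr_isClassFunction hθ)
  let N : Subgroup T := M.subgroupOf T
  let eN : N ≃* M := Subgroup.subgroupOfEquivOfLe hMT
  let θ' : IrrCharacter N := ⟨θ ∘ eN, isIrr_comp eN.toMonoidHom eN.surjective hθ⟩
  have hinv : CInv N (θ' : N → ℂ) := by
    intro x n
    exact (hT x).1 x.2 (eN n)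
  obtain ⟨Q, hg, hfin, π, l, hs, hc, hl, H⟩ := exists_red N θ' hinv
  refine ⟨Q, hg, hfin, π, l, hs, hc, hl, ?_⟩
  intro β hβ
  obtain ⟨ψ, hψ⟩ := H β hβ
  have hψ' : ∀ m : M, (ψ : T → ℂ) ⟨m, hMT m.2⟩ = (charDegree (β : Q → ℂ) : ℂ) * θ m := by
    intro m
    have := hψ ⟨⟨m, hMT m.2⟩, m.2⟩
    rw [(deg_spec β.2).1] at this
    exact this
  obtain ⟨h1, h2, h3⟩ := over_ind M hθ T hT hMT ψ.2 (deg_spec β.2).2.ne' hψ'
  refine ⟨⟨_, h1⟩, h3, ?_⟩
  have h4 := hψ' 1
  have h5 : (⟨((1 : M) : X), hMT (1 : M).2⟩ : T) = 1 := rfl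
  rw [h5, (deg_spec hθ).1] at h4
  rw [h4, (deg_spec h1).1] at h2
  have h6 : charDegree (indFun T (ψ : T → ℂ)) =
      T.index * (charDegree (β : Q → ℂ) * charDegree θ) := by exact_mod_cast h2
  rw [mul_assoc]
  exact h6

/-! ## The numerical elimination -/

/-- `t` is a sum of at most `c` members of `L`. -/
def can : List ℕ → ℕ → ℕ → Bool
  | [], _, t => t == 0
  | d :: L, c, t => (List.range (c + 1)).any fun k => Nat.ble (k * d) t && can L (c - k) (t - k * d)

theorem can_of_sum {ι : Type*} (L : List ℕ) (s : Finset ι) (f : ι → ℕ) (hf : ∀ i ∈ s, f i ∈ L) {c : ℕ}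
    (hc : s.card ≤ c) : can L c (∑ i ∈ s, f i) = true := by
  classical
  induction L generalizing s c with
  | nil =>
    have h1 : s = ∅ := Finset.eq_empty_of_forall_notMem fun i hi => List.not_mem_nil (hf i hi)
    rw [h1, Finset.sum_empty]
    rfl
  | cons d L ih =>
    set k := (s.filter fun i => f i = d).card with hk
    have h1 : ∑ i ∈ s, f i = k * d + ∑ i ∈ s.filter (fun i => ¬ f i = d), f i := by
      rw [← Finset.sum_filter_add_sum_filter_not s (fun i => f i = d) f]
      congr 1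
      rw [Finset.sum_congr rfl fun i hi => (Finset.mem_filter.1 hi).2, Finset.sum_const, smul_eq_mul]
    have h2 : k + (s.filter fun i => ¬ f i = d).card = s.card := Finset.card_filter_add_card_filter_not _
    simp only [can, List.any_eq_true, List.mem_range, Bool.and_eq_true]
    refine ⟨k, by omega, ?_, ?_⟩
    · rw [h1]
      exact Nat.ble_eq_true_of_le (Nat.le_add_right _ _)
    · rw [h1, Nat.add_sub_cancel_left]
      refine ih _ (fun i hi => ?_) (by omega)
      have h3 := Finset.mem_filter.1 hi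
      exact (List.mem_cons.1 (hf i h3.1)).resolve_left h3.2

/-- the squares of the possible ratios -/
def sqs (a b m t : ℕ) : List ℕ :=
  ((List.range m).filter fun e => t % e == 0 && Nat.ble (e * e) t && !(e % a == 0) && !(e % b == 0)).map
    fun e => e * e

/-- the elimination -/
def chk (n a b c m : ℕ) : Bool :=
  Nat.blt n (m * m) && (List.range (n + 1)).all fun t =>
    !(n % t == 0) || (n / t) % a == 0 || (n / t) % b == 0 || !(can (sqs a b m t) c t)

/-- **`Hit` from the counting lemma.** -/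
theorem hit_of {S : Type v} [Group S] [Finite S] {a b c n m : ℕ} (ha : a.Prime) (hn : Nat.card S = n) (han : a ∣ n)
    (hC : ∀ y : S, orderOf y = a → Nat.card (Subgroup.centralizer ({y} : Set S)) ≤ c)
    (hchk : chk n a b c m = true) : H670.Reg.Hit.{u} {a, b} S := by
  classical
  intro X _ _ M _ _ ⟨e⟩ θ
  by_contra hcon
  push Not at hcon
  have hno : ∀ χ : IrrCharacter X, classInner (fun m : M => (χ : X → ℂ) m) (θ : M → ℂ) ≠ 0 →
      ∀ d : ℕ, charDegree (χ : X → ℂ) = d * charDegree (θ : M → ℂ) → ¬ a ∣ d ∧ ¬ b ∣ d := by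
    intro χ h1 d h2
    exact ⟨fun h => hcon χ h1 d a (Or.inl rfl) h h2, fun h => hcon χ h1 d b (Or.inr rfl) h h2⟩
  set I := H672.inertia M (θ : M → ℂ) with hI
  obtain ⟨Q, hg, hfin, π, l, hs, hc, hl, H⟩ := exists_red_over M (θ : M → ℂ) θ.2 I hI
  have hMI : M ≤ I := H672.le_inertia (isIrr_isClassFunction θ.2)
  let N : Subgroup I := M.subgroupOf I
  -- the image in the quotient
  let ι : I ⧸ N →* X ⧸ M := QuotientGroup.map N M I.subtype (fun x hx => hx)
  have hι : Function.Injective ι := by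
    rw [injective_iff_map_eq_one]
    intro y hy
    obtain ⟨t, rfl⟩ := QuotientGroup.mk_surjective y
    have h1 : ((t : X) : X ⧸ M) = 1 := hy
    have h2 : (t : X) ∈ M := (QuotientGroup.eq_one_iff (t : X)).1 h1
    exact (QuotientGroup.eq_one_iff t).2 h2
  set t := Nat.card (I ⧸ N) with ht
  have hti : t * I.index = n := by
    have h1 : t = M.relIndex I := rfl
    rw [h1, Subgroup.relIndex_mul_index hMI, ← hn]
    exact Nat.card_congr e.toEquiv
  have hn0 : n ≠ 0 := by rw [← hn]; exact Nat.card_pos.ne'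
  have ht0 : t ≠ 0 := fun h => hn0 (by rw [← hti, h, zero_mul])
  have hdeg : ∀ β : IrrCharacter Q, Over π l (β : Q → ℂ) → ¬ a ∣ I.index * charDegree (β : Q → ℂ) ∧
      ¬ b ∣ I.index * charDegree (β : Q → ℂ) := by
    intro β hβ
    obtain ⟨χ, h1, h2⟩ := H β hβ
    exact hno χ h1 _ h2
  obtain ⟨β1, hβ1⟩ := exists_over l hs hc
  have hia : ¬ a ∣ I.index := fun h => (hdeg β1 hβ1).1 (h.mul_right _)
  have hib : ¬ b ∣ I.index := fun h => (hdeg β1 hβ1).2 (h.mul_right _)
  have hat : a ∣ t := by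
    have h1 : a ∣ t * I.index := by rw [hti]; exact han
    exact (ha.dvd_mul.1 h1).resolve_right hia
  have := finite_irr (G := Q)
  have := Fintype.ofFinite (IrrCharacter Q)
  have hcard : (Ov l).card ≤ c := by
    refine card_Ov_le l hs hc ha hat (fun y hy => ?_) (fun β hβ h => (hdeg β hβ).1 (h.mul_left _))
    let f : I ⧸ N →* S := e.toMonoidHom.comp ι
    have hf : Function.Injective f := e.injective.comp hι
    refine le_trans ?_ (hC (f y) ((orderOf_injective f hf y).trans hy))
    refine Nat.card_le_card_of_injective (fun z : Subgroup.centralizer ({y} : Set (I ⧸ N)) =>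
      (⟨f z, ?_⟩ : Subgroup.centralizer ({f y} : Set S))) ?_
    · rw [Subgroup.mem_centralizer_singleton_iff, ← map_mul, ← map_mul,
        Subgroup.mem_centralizer_singleton_iff.1 z.2]
    · intro z w hzw
      exact Subtype.ext (hf (congrArg Subtype.val hzw))
  have hsum := sum_sq l hs hc
  unfold chk at hchk
  rw [Bool.and_eq_true] at hchk
  obtain ⟨hnm, hchk⟩ := hchk
  have hnm' : n < m * m := Nat.blt_eq.mp hnm
  have htn : t ≤ n := Nat.le_of_dvd (Nat.pos_of_ne_zero hn0) ⟨_, hti.symm⟩
  have hmem : ∀ β ∈ Ov l, charDegree (β : Q → ℂ) ^ 2 ∈ sqs a b m t := by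
    intro β hβ
    have hβ' := (mem_Ov l).1 hβ
    have hd0 := (deg_spec β.2).2
    have h1 : charDegree (β : Q → ℂ) ∣ t := by
      rw [ht, ← index_eq hs]
      exact (H678.Codeg.charDegree_dvd_index_center β).trans (Subgroup.index_dvd_of_le hc)
    have h2 : charDegree (β : Q → ℂ) ^ 2 ≤ t := by
      have h3 : t = ∑ β ∈ Ov l, charDegree (β : Q → ℂ) ^ 2 := hsum.symm
      rw [h3]
      exact Finset.single_le_sum (f := fun β : IrrCharacter Q => charDegree (β : Q → ℂ) ^ 2)
        (fun _ _ => Nat.zero_le _) hβ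
    unfold sqs
    rw [List.mem_map]
    refine ⟨charDegree (β : Q → ℂ), ?_, (pow_two _).symm⟩
    rw [List.mem_filter, List.mem_range]
    refine ⟨Nat.pow_lt_pow_iff_left (n := 2) (by norm_num) |>.1 (by rw [pow_two m]; omega), ?_⟩
    have h3 : ¬ charDegree (β : Q → ℂ) % a = 0 := fun h =>
      (hdeg β hβ').1 ((Nat.dvd_of_mod_eq_zero h).mul_left _)
    have h4 : ¬ charDegree (β : Q → ℂ) % b = 0 := fun h =>
      (hdeg β hβ').2 ((Nat.dvd_of_mod_eq_zero h).mul_left _)
    simp only [Bool.and_eq_true, beq_iff_eq, Nat.ble_eq, Bool.not_eq_true', beq_eq_false_iff_ne, ne_eq]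
    exact ⟨⟨⟨Nat.mod_eq_zero_of_dvd h1, by rw [← pow_two]; exact h2⟩, h3⟩, h4⟩
  have hcan : can (sqs a b m t) c t = true := by
    have h1 := can_of_sum (sqs a b m t) (Ov l) (fun β => charDegree (β : Q → ℂ) ^ 2) hmem hcard
    rwa [hsum] at h1
  have hnt : n / t = I.index := by
    rw [← hti]
    exact Nat.mul_div_cancel_left _ (Nat.pos_of_ne_zero ht0)
  have h1 := List.all_eq_true.1 hchk t (List.mem_range.2 (Nat.lt_succ_of_le htn))
  rw [hnt, hcan] at h1
  have h2 : n % t = 0 := Nat.mod_eq_zero_of_dvd ⟨_, hti.symm⟩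
  have h3 : ¬ I.index % a = 0 := fun h => hia (Nat.dvd_of_mod_eq_zero h)
  have h4 : ¬ I.index % b = 0 := fun h => hib (Nat.dvd_of_mod_eq_zero h)
  simp [h2, h3, h4] at h1

theorem chk_m11 : chk 7920 5 2 5 100 = true := by decide +kernel

theorem chk_l34 : chk 20160 5 3 5 150 = true := by decide +kernel

end Cfsg.Agent.H730.Hit
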